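import Cfsg.Agent.LAE65.Push.Setup
import Cfsg.Agent.LAE65.BlockCenter
import Cfsg.Agent.Lib.Thompson.Basic
import Mathlib.GroupTheory.FiniteAbelian.Duality
import Mathlib.RingTheory.RootsOfUnity.AlgebraicallyClosed
import Mathlib.Analysis.Complex.Polynomial.Basic

/-!
In the pushing-up situation no subgroup of `S` is an over-offender on a module on which `O^p(G)`
acts nontrivially.
-/

set_option autoImplicit false
set_option linter.style.haveILetI false

open Subgroup Cfsg
open scoped commutatorElement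

namespace Cfsg.Agent.LAE65.Push

variable {G : Type*} [Group G] [Finite G] {p : ℕ} [hp : Fact p.Prime] {S M : Subgroup G}

theorem Setup.pCore_le (h : Setup p S M) : pCore p G ≤ S := by
  obtain ⟨P, rfl⟩ := h.sylow
  exact Thompson.pCore_le_sylow P

theorem Setup.sup_residual (h : Setup p S M) : S ⊔ pResidual p G = ⊤ := by
  obtain ⟨P, rfl⟩ := h.sylow
  exact Transfer.sup_pResidual_eq_top P.not_dvd_index

theorem Setup.isPGroup (h : Setup p S M) : IsPGroup p S := by
  obtain ⟨P, rfl⟩ := h.sylow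
  exact P.isPGroup'

theorem pResidualOf_pResidual : pResidualOf p (pResidual p G) = pResidual p G := by
  rw [pResidualOf, Transfer.pResidual_pResidual, ← MonoidHom.range_eq_map, range_subtype]

theorem offender_bound (h : Setup p S M) {V : Subgroup G} (hVn : V.Normal)
    (hVel : IsElementaryAbelian p V) (hVR : pCore p G ≤ centralizer (V : Set G))
    (hVnt : ¬ pResidual p G ≤ centralizer (V : Set G)) {Q : Subgroup G} (hQ : Q ≤ S) :
    Nat.card Q * Nat.card ↥(V ⊓ centralizer (Q : Set G)) ≤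
      Nat.card ↥(Q ⊓ pCore p G) * Nat.card V := by
  haveI := hVn
  set O := pResidual p G with hO
  set W := ⁅V, O⁆ with hW
  have hVnorm : ∀ H : Subgroup G, H ≤ normalizer (V : Set G) := fun H =>
    le_top.trans (normalizer_eq_top_iff.2 hVn).ge
  haveI hWn : W.Normal := Subgroup.commutator_normal V O
  have hWV : W ≤ V := commutator_le_left V O
  have hWW : ⁅W, O⁆ = W :=
    Block.commutator_commutator_eq pResidualOf_pResidual hVel (hVnorm _)
  have hWne : W ≠ ⊥ := fun e => by
    rw [hW, commutator_eq_bot_iff_le_centralizer, le_centralizer_iff] at e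
    exact hVnt e
  have hWp : IsPGroup p W := (Thompson.isPGroup_of_isElementaryAbelian hVel).to_le hWV
  letI : CommGroup W :=
    { (inferInstance : Group W) with
      mul_comm := fun a b => Subtype.ext (Thompson.elemAb_comm hVel.1 (hWV a.2) (hWV b.2)) }
  -- an `S`-invariant linear character
  let U : Subgroup W := (⁅W, S⁆).subgroupOf W
  have hWS : W ≤ S := by
    refine le_trans (Thompson.le_pCore hWn hWp) h.pCore_le
  have hU : U ≠ ⊤ := fun e => hWne (Thompson.eq_bot_of_commutator_eq_self h.isPGroup hWS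
    (subgroupOf_eq_top.1 e))
  haveI : Nontrivial (W ⧸ U) := QuotientGroup.nontrivial_iff.2 hU
  obtain ⟨a, ha⟩ := exists_ne (1 : W ⧸ U)
  obtain ⟨φ₀, hφ₀⟩ := CommGroup.exists_apply_ne_one_of_hasEnoughRootsOfUnity (W ⧸ U) ℂ ha
  let φ : W →* ℂˣ := φ₀.comp (QuotientGroup.mk' U)
  have hmem : ∀ (g : G) (w : W), g * w * g⁻¹ ∈ W := fun g w => hWn.conj_mem _ w.2 g
  let cw : G → (W →* W) := fun g =>
    { toFun := fun w => ⟨g * w * g⁻¹, hmem g w⟩
      map_one' := Subtype.ext (by simp)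
      map_mul' := fun a b => Subtype.ext (by simp [mul_assoc]) }
  have hcw : ∀ g k w, cw g (cw k w) = cw (g * k) w := fun g k w => Subtype.ext (by simp [cw, mul_assoc])
  have hcw1 : ∀ w, cw 1 w = w := fun w => Subtype.ext (by simp [cw])
  let St : Subgroup G :=
    { carrier := {g | ∀ w, φ (cw g w) = φ w}
      one_mem' := fun w => by rw [hcw1]
      mul_mem' := fun {a b} ha hb w => by rw [← hcw, ha, hb]
      inv_mem' := fun {a} ha w => by rw [← ha (cw a⁻¹ w), hcw, mul_inv_cancel, hcw1] }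
  have hSSt : S ≤ St := by
    intro s hs w
    have hd : cw s w * w⁻¹ ∈ U := by
      show s * (w : G) * s⁻¹ * (w : G)⁻¹ ∈ ⁅W, S⁆
      rw [← commutatorElement_def, ← commutatorElement_inv]
      exact inv_mem (commutator_mem_commutator w.2 hs)
    have h1 : φ (cw s w * w⁻¹) = 1 := by
      show φ₀ (QuotientGroup.mk' U (cw s w * w⁻¹)) = 1
      rw [show QuotientGroup.mk' U (cw s w * w⁻¹) = 1 from (QuotientGroup.eq_one_iff _).2 hd, map_one]
    rwa [map_mul, map_inv, mul_inv_eq_one] at h1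
  have hStne : St ≠ ⊤ := by
    intro e
    obtain ⟨w₀, rfl⟩ := QuotientGroup.mk'_surjective U a
    apply hφ₀
    have hWker : W ≤ φ.ker.map W.subtype := by
      conv_lhs => rw [← hWW]
      rw [commutator_le]
      intro w hw o _
      refine ⟨⟨w, hw⟩ * (cw o ⟨w, hw⟩)⁻¹, ?_, ?_⟩
      · show φ _ = 1
        rw [map_mul, map_inv, (e.symm ▸ mem_top o : o ∈ St) ⟨w, hw⟩, mul_inv_cancel]
      · show w * (o * w * o⁻¹)⁻¹ = ⁅w, o⁆
        rw [commutatorElement_def]; group
    obtain ⟨u, hu, hue⟩ := hWker w₀.2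
    rw [show w₀ = u from (Subtype.ext hue).symm]
    exact hu
  have hStM : St ≤ M := h.le_of_ne_top St hStne hSSt
  obtain ⟨x, -, hx⟩ := SetLike.exists_of_lt (h.coatom.lt_top)
  -- the injection
  set C := (V ⊓ centralizer (Q : Set G)).subgroupOf W with hC
  let f : Q → (W →* ℂˣ) := fun s =>
    φ.comp (cw (x⁻¹ * (s : G)⁻¹)) * (φ.comp (cw x⁻¹))⁻¹
  have hfC : ∀ s, C ≤ (f s).ker := by
    intro s w hw
    obtain ⟨-, hwc⟩ := mem_inf.1 hw
    have h1 : cw ((s : G)⁻¹) w = w := Subtype.ext (by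
      show (s : G)⁻¹ * w * (s : G)⁻¹⁻¹ = w
      rw [inv_inv, mul_assoc, show (w : G) * (s : G) = (s : G) * w from (mem_centralizer_iff.1 hwc _ s.2).symm,
        inv_mul_cancel_left])
    show φ (cw (x⁻¹ * (s : G)⁻¹) w) * (φ (cw x⁻¹ w))⁻¹ = 1
    rw [← hcw, h1, mul_inv_cancel]
  let g : Q → (W ⧸ C →* ℂˣ) := fun s => QuotientGroup.lift C (f s) (hfC s)
  have hg : ∀ s t, g s = g t → (s : G)⁻¹ * t ∈ Q ⊓ pCore p G := by
    intro s t hst
    have hf : f s = f t := by
      ext1 w
      exact DFunLike.congr_fun hst (QuotientGroup.mk w)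
    have hst' : x⁻¹ * (s : G)⁻¹ * (t : G) * x ∈ St := by
      intro w
      have := DFunLike.congr_fun (mul_right_cancel hf) (cw ((t : G) * x) w)
      simp only [MonoidHom.comp_apply, hcw] at this
      rw [show x⁻¹ * (t : G)⁻¹ * ((t : G) * x) = 1 by group, hcw1] at this
      rw [show x⁻¹ * (s : G)⁻¹ * (t : G) * x = x⁻¹ * (s : G)⁻¹ * ((t : G) * x) by group]
      exact this
    refine mem_inf.2 ⟨mul_mem (inv_mem s.2) t.2, h.inter x hx (mem_inf.2
      ⟨mul_mem (inv_mem (hQ s.2)) (hQ t.2), ?_⟩)⟩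
    refine ⟨_, hStM hst', ?_⟩
    simp [mul_assoc]
  let R₀ := (Q ⊓ pCore p G).subgroupOf Q
  have hinj : Nat.card (Q ⧸ R₀) ≤ Nat.card (W ⧸ C →* ℂˣ) := by
    haveI : Finite (W ⧸ C →* ℂˣ) :=
      Finite.of_equiv _ (CommGroup.monoidHom_mulEquiv_of_hasEnoughRootsOfUnity (W ⧸ C) ℂ).some.symm.toEquiv
    refine Nat.card_le_card_of_injective (fun q => g q.out) fun q q' e => ?_
    rw [← QuotientGroup.out_eq' q, ← QuotientGroup.out_eq' q', QuotientGroup.eq]
    exact hg _ _ e
  rw [Nat.card_congr (CommGroup.monoidHom_mulEquiv_of_hasEnoughRootsOfUnity (W ⧸ C) ℂ).some.toEquiv,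
    ← index_eq_card, ← index_eq_card] at hinj
  have h1 : C.index ≤ (V ⊓ centralizer (Q : Set G)).relIndex V :=
    relIndex_le_of_le_right hWV index_ne_zero_of_finite
  have h2 : (Q ⊓ pCore p G).relIndex Q ≤ (V ⊓ centralizer (Q : Set G)).relIndex V := hinj.trans h1
  calc Nat.card Q * Nat.card ↥(V ⊓ centralizer (Q : Set G))
      = Nat.card ↥(Q ⊓ pCore p G) * (Q ⊓ pCore p G).relIndex Q *
          Nat.card ↥(V ⊓ centralizer (Q : Set G)) := by
        conv_lhs => rw [← relIndex_bot_left Q,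
          ← relIndex_mul_relIndex ⊥ (Q ⊓ pCore p G) Q bot_le inf_le_left, relIndex_bot_left]
    _ ≤ Nat.card ↥(Q ⊓ pCore p G) * (V ⊓ centralizer (Q : Set G)).relIndex V *
          Nat.card ↥(V ⊓ centralizer (Q : Set G)) := by gcongr
    _ = Nat.card ↥(Q ⊓ pCore p G) * Nat.card V := by
        rw [mul_assoc, mul_comm ((V ⊓ centralizer (Q : Set G)).relIndex V),
          ← relIndex_bot_left (V ⊓ centralizer (Q : Set G)), relIndex_mul_relIndex _ _ _ bot_le inf_le_left,
          relIndex_bot_left]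

end Cfsg.Agent.LAE65.Push
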