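import Cfsg.Agent.LAE65.CD
import Cfsg.Agent.Lib.Thompson.JSubgroup
import Cfsg.Agent.Lib.PGroup.Basic

/-!
Centrally large subgroups of a group with a normal subgroup on whose module nothing over-offends.
-/

set_option autoImplicit false
set_option linter.unusedSectionVars false

open Subgroup Cfsg
open scoped commutatorElement Pointwise

namespace Cfsg.Agent.LAE65.Push

variable {P : Type*} [Group P] [Finite P]

/-- `Φ(H)` as generated by powers and commutators. -/
def phi (p : ℕ) (H : Subgroup P) : Subgroup P :=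
  closure ((fun x => x ^ p) '' (H : Set P)) ⊔ ⁅H, H⁆

theorem phi_le {p : ℕ} (H : Subgroup P) : phi p H ≤ H := by
  refine sup_le ((closure_le _).2 ?_) (le_normalizer_iff_commutator_le_left.1 le_normalizer)
  rintro _ ⟨x, hx, rfl⟩
  exact H.pow_mem hx p

theorem map_frattini_eq_phi {p : ℕ} [Fact p.Prime] {H : Subgroup P} (hH : IsPGroup p H) :
    (frattini H).map H.subtype = phi p H := by
  rw [PGroup.frattini_eq hH, phi, Subgroup.map_sup, MonoidHom.map_closure,
    Subgroup.map_subtype_commutator]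
  congr 2
  ext x
  constructor
  · rintro ⟨_, ⟨y, rfl⟩, rfl⟩
    exact ⟨y, y.2, by simp⟩
  · rintro ⟨y, hy, rfl⟩
    exact ⟨_, ⟨⟨y, hy⟩, rfl⟩, by simp⟩

theorem phi_sup_central {p : ℕ} {X U : Subgroup P} (hU : U ≤ centralizer ((X ⊔ U : Subgroup P) : Set P))
    (hUp : ∀ u ∈ U, u ^ p = 1) : phi p (X ⊔ U) = phi p X := by
  have hUn : X ≤ normalizer (U : Set P) :=
    (le_centralizer_iff.1 (hU.trans (centralizer_anti le_sup_left))).trans (centralizer_le_normalizer _)
  have hdec : ∀ q ∈ X ⊔ U, ∃ x ∈ X, ∃ u ∈ U, x * u = q := fun q hq => by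
    rw [← SetLike.mem_coe, coe_mul_of_left_le_normalizer_right X U hUn] at hq
    exact Set.mem_mul.1 hq
  have hc : ∀ q ∈ X ⊔ U, ∀ u ∈ U, Commute q u := fun q hq u hu => mem_centralizer_iff.1 (hU hu) q hq
  refine le_antisymm (sup_le ((closure_le _).2 ?_) ?_) (sup_le_sup ?_ (commutator_mono le_sup_left le_sup_left))
  · rintro _ ⟨q, hq, rfl⟩
    obtain ⟨x, hx, u, hu, rfl⟩ := hdec q hq
    show (x * u) ^ p ∈ phi p X
    rw [(hc x (mem_sup_left hx) u hu).mul_pow, hUp u hu, mul_one]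
    exact mem_sup_left (subset_closure ⟨x, hx, rfl⟩)
  · rw [commutator_le]
    intro q hq r hr
    obtain ⟨x, hx, u, hu, rfl⟩ := hdec q hq
    obtain ⟨y, hy, v, hv, rfl⟩ := hdec r hr
    have h1 : Commute (y * v) u := hc _ hr u hu
    have h2 : Commute x v := hc x (mem_sup_left hx) v hv
    have : ⁅x * u, y * v⁆ = ⁅x, y⁆ := by
      simp only [commutatorElement_def, mul_inv_rev]
      calc x * u * (y * v) * (u⁻¹ * x⁻¹) * (v⁻¹ * y⁻¹)
          = x * (u * (y * v) * u⁻¹) * x⁻¹ * v⁻¹ * y⁻¹ := by group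
        _ = x * (y * v) * x⁻¹ * v⁻¹ * y⁻¹ := by rw [← h1.eq, mul_inv_cancel_right]
        _ = x * y * (v * x⁻¹) * v⁻¹ * y⁻¹ := by group
        _ = x * y * (x⁻¹ * v) * v⁻¹ * y⁻¹ := by rw [h2.inv_left.eq]
        _ = x * y * x⁻¹ * y⁻¹ := by group
    rw [this]
    exact mem_sup_right (commutator_mem_commutator hx hy)
  · exact closure_mono (Set.image_mono fun x hx => mem_sup_left hx)

variable {p : ℕ} {R V : Subgroup P}

/-- The hypotheses on `R = O_p(G)` and the module `V` inside `S`. -/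
structure Bounded (p : ℕ) (R V : Subgroup P) : Prop where
  v_le : V ≤ R
  le_cent : R ≤ centralizer (V : Set P)
  cent_le : centralizer (R : Set P) ≤ R
  elem : IsElementaryAbelian p V
  normal : V.Normal
  bound : ∀ Y : Subgroup P,
    Nat.card Y * Nat.card ↥(V ⊓ centralizer (Y : Set P)) ≤ Nat.card ↥(Y ⊓ R) * Nat.card V
  top_cl : IsCentrallyLarge (⊤ : Subgroup P)

theorem Bounded.cent_v (h : Bounded p R V) : centralizer (V : Set P) = R := by
  refine le_antisymm ?_ h.le_cent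
  have h1 := h.bound (centralizer (V : Set P))
  rw [inf_eq_left.2 (le_centralizer_centralizer V)] at h1
  exact inf_eq_left.1 (eq_of_le_of_card_ge inf_le_left (Nat.le_of_mul_le_mul_right h1 Nat.card_pos))

theorem Bounded.large_inter (h : Bounded p R V) {Y : Subgroup P} (hY : IsCentralizerLarge Y) :
    IsCentralizerLarge (Y ⊓ R) ∧
      centralizer ((Y ⊓ R : Subgroup P) : Set P) = centralizer (Y : Set P) ⊔ V ∧
      Nat.card Y * Nat.card ↥(V ⊓ centralizer (Y : Set P)) = Nat.card ↥(Y ⊓ R) * Nat.card V := by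
  set C := centralizer (Y : Set P) with hC
  have hle : C ⊔ V ≤ centralizer ((Y ⊓ R : Subgroup P) : Set P) :=
    sup_le (centralizer_anti inf_le_left)
      (le_centralizer_iff.1 (inf_le_right.trans h.le_cent))
  have h1 := card_mul_card_le C V
  rw [inf_comm C V] at h1
  have h2 : Nat.card ↥(C ⊔ V) ≤ Nat.card ↥(centralizer ((Y ⊓ R : Subgroup P) : Set P)) :=
    card_le_of_le hle
  have h3 := h.bound Y
  have h4 : meas (Y ⊓ R) ≤ Nat.card Y * Nat.card C := (meas_le _).trans (hY : _ = _).ge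
  unfold meas at h4
  rw [← hC] at h3
  set a := Nat.card Y
  set c := Nat.card C
  set x := Nat.card ↥(Y ⊓ R)
  set d := Nat.card ↥(centralizer ((Y ⊓ R : Subgroup P) : Set P))
  set v := Nat.card V
  set i := Nat.card ↥(V ⊓ C)
  set s := Nat.card ↥(C ⊔ V)
  have hx : 0 < x := Nat.card_pos
  have hc : 0 < c := Nat.card_pos
  have hi : 0 < i := Nat.card_pos
  have e1 : a * i * c ≤ x * v * c := Nat.mul_le_mul_right _ h3
  have e2 : x * (c * v) ≤ x * (s * i) := Nat.mul_le_mul_left _ h1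
  have e3 : x * s * i ≤ x * d * i := Nat.mul_le_mul_right _ (Nat.mul_le_mul_left _ h2)
  have e4 : x * d * i ≤ a * c * i := Nat.mul_le_mul_right _ h4
  have hxd : x * d = a * c := by
    refine le_antisymm h4 (Nat.le_of_mul_le_mul_right ?_ hi)
    calc a * c * i = a * i * c := by ring
      _ ≤ x * v * c := e1
      _ = x * (c * v) := by ring
      _ ≤ x * (s * i) := e2
      _ = x * s * i := by ring
      _ ≤ x * d * i := e3
  have hsd : d ≤ s := by
    refine Nat.le_of_mul_le_mul_left (Nat.le_of_mul_le_mul_right ?_ hi) hx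
    calc x * d * i = a * i * c := by rw [hxd]; ring
      _ ≤ x * v * c := e1
      _ = x * (c * v) := by ring
      _ ≤ x * (s * i) := e2
      _ = x * s * i := by ring
  have hai : x * v ≤ a * i := by
    refine Nat.le_of_mul_le_mul_right ?_ hc
    calc x * v * c = x * (c * v) := by ring
      _ ≤ x * (s * i) := e2
      _ = x * s * i := by ring
      _ ≤ x * d * i := e3
      _ = a * i * c := by rw [hxd]; ring
  exact ⟨hxd.trans (hY : _ = _), (eq_of_le_of_card_ge hle hsd).symm, le_antisymm h3 hai⟩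

theorem Bounded.r_cl (h : Bounded p R V) : IsCentrallyLarge R := by
  have h1 := (h.large_inter (cl_iff.1 h.top_cl).1).1
  rw [top_inf_eq] at h1
  exact cl_iff.2 ⟨h1, h.cent_le⟩

/-- The replacement of a minimal centrally large subgroup inside `R`. -/
theorem Bounded.replacement (h : Bounded p R V) {Q : Subgroup P} (hQ : IsMinimalCentrallyLarge Q) :
    IsMinimalCentrallyLarge ((Q ⊓ R) ⊔ V) ∧
      centralizer (((Q ⊓ R) ⊔ V : Subgroup P) : Set P) = (centralizer (Q : Set P) ⊓ R) ⊔ V ∧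
      Nat.card ↥(centralizer (Q : Set P) ⊓ R) * Nat.card V =
        Nat.card ↥(V ⊓ centralizer (Q : Set P)) * Nat.card ↥(centralizer (Q : Set P)) := by
  obtain ⟨hQm, hQC⟩ := cl_iff.1 hQ.1
  obtain ⟨hXm, hCX, hav⟩ := h.large_inter hQm
  set W := centralizer (Q : Set P) with hW
  set X := Q ⊓ R with hX
  have hdec : X ⊔ W = Q := mcl_decomp hQ h.r_cl
  have hWX : W ≤ centralizer (X : Set P) := centralizer_anti inf_le_left
  have hXW : X ⊓ W = W ⊓ R := by
    rw [hX, inf_right_comm, inf_eq_right.2 hQC, inf_comm]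
  have hVQ : V ⊓ Q = V ⊓ W := by
    refine le_antisymm (le_inf inf_le_left ?_) (inf_le_inf_left _ hQC)
    conv_rhs => rw [hW, ← hdec, centralizer_sup]
    refine le_inf (inf_le_left.trans (le_centralizer_iff.1 (inf_le_right.trans h.le_cent))) ?_
    exact inf_le_right.trans (le_centralizer_centralizer Q)
  have hXV : X ⊓ V = V ⊓ W := by
    rw [hX, inf_assoc, inf_eq_right.2 h.v_le, inf_comm, hVQ]
  have hWV : (W ⊓ R) ⊓ V = V ⊓ W := by
    rw [inf_assoc, inf_eq_right.2 h.v_le, inf_comm]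
  have hVn : ∀ H : Subgroup P, H ≤ normalizer (V : Set P) := fun H =>
    le_top.trans (normalizer_eq_top_iff.2 h.normal).ge
  have hcardQ : Nat.card Q * Nat.card ↥(W ⊓ R) = Nat.card X * Nat.card W := by
    rw [← card_mul_inter X W, ← coe_mul_of_left_le_normalizer_right X W
      ((le_centralizer_iff.1 hWX).trans (centralizer_le_normalizer _)), hXW, hdec]
    rfl
  have hcard2 : Nat.card ↥(X ⊔ V) * Nat.card ↥(V ⊓ W) = Nat.card X * Nat.card V := by
    rw [← card_mul_inter X V, ← coe_mul_of_left_le_normalizer_right X V (hVn _), hXV]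
    rfl
  have hcardW : Nat.card ↥((W ⊓ R) ⊔ V) * Nat.card ↥(V ⊓ W) = Nat.card ↥(W ⊓ R) * Nat.card V := by
    rw [← card_mul_inter (W ⊓ R) V, ← coe_mul_of_left_le_normalizer_right (W ⊓ R) V (hVn _), hWV]
    rfl
  have hQ2 : Nat.card ↥(X ⊔ V) = Nat.card Q :=
    Nat.eq_of_mul_eq_mul_right Nat.card_pos (hcard2.trans hav.symm)
  have hrv : Nat.card ↥(W ⊓ R) * Nat.card V = Nat.card ↥(V ⊓ W) * Nat.card W := by
    refine Nat.eq_of_mul_eq_mul_left (Nat.card_pos : 0 < Nat.card Q) ?_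
    rw [← mul_assoc, hcardQ, ← mul_assoc, hav]
    ring
  have hW2 : Nat.card ↥((W ⊓ R) ⊔ V) = Nat.card W :=
    Nat.eq_of_mul_eq_mul_right Nat.card_pos (hcardW.trans (hrv.trans (mul_comm _ _)))
  have hC2 : centralizer ((X ⊔ V : Subgroup P) : Set P) = (W ⊓ R) ⊔ V := by
    rw [centralizer_sup, hCX, h.cent_v]
    refine le_antisymm ?_ (le_inf (sup_le_sup_right inf_le_left _) (sup_le inf_le_right h.v_le))
    rintro g ⟨hg, hgR⟩
    change g ∈ ((W ⊔ V : Subgroup P) : Set P) at hg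
    rw [coe_mul_of_left_le_normalizer_right W V (hVn _), Set.mem_mul] at hg
    obtain ⟨w, hw, v, hv, rfl⟩ := hg
    exact mul_mem_sup ⟨hw, (R.mul_mem_cancel_right (h.v_le hv)).1 hgR⟩ hv
  refine ⟨mcl_of_card_le hQ (cl_iff.2 ⟨?_, ?_⟩) hQ2.le, hC2, hrv⟩
  · show Nat.card ↥(X ⊔ V) * _ = _
    rw [hC2, hQ2, hW2]
    exact hQm
  · rw [hC2]
    exact sup_le_sup_right (hXW.ge.trans inf_le_left) V

theorem Bounded.not_le_of_not_le (h : Bounded p R V) {Q : Subgroup P} (hQ : IsMinimalCentrallyLarge Q)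
    (hQR : ¬ Q ≤ R) : ¬ centralizer (Q : Set P) ≤ R := fun hW => hQR <| by
  obtain ⟨hQm, hQC⟩ := cl_iff.1 hQ.1
  rw [← mcl_decomp hQ h.r_cl]
  exact sup_le inf_le_right hW

theorem omegaOne_center_eq {Q : Subgroup P} (hQ : IsCentrallyLarge Q) (p : ℕ) :
    omegaOneCenter p Q = omegaOne p (centralizer (Q : Set P)) := by
  rw [omegaOneCenter, inf_eq_right.2 (cl_iff.1 hQ).2]

/-- For the largest `Ω₁(Z(Q))` the replacement has the same Frattini subgroup. -/
theorem Bounded.replacement_phi (h : Bounded p R V) {Q : Subgroup P} (hQ : IsMinimalCentrallyLarge Q)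
    (hmax : ∀ Q' : Subgroup P, IsMinimalCentrallyLarge Q' →
      Nat.card ↥(omegaOneCenter p Q') ≤ Nat.card ↥(omegaOneCenter p Q)) :
    Nat.card ↥(omegaOneCenter p ((Q ⊓ R) ⊔ V)) = Nat.card ↥(omegaOneCenter p Q) ∧
      phi p ((Q ⊓ R) ⊔ V) = phi p Q := by
  obtain ⟨hQ2, hC2, hrv⟩ := h.replacement hQ
  have hm := hmax _ hQ2
  obtain ⟨hQm, hQC⟩ := cl_iff.1 hQ.1
  rw [omegaOne_center_eq hQ2.1, hC2, omegaOne_center_eq hQ.1] at hm ⊢
  set W := centralizer (Q : Set P) with hW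
  set X := Q ⊓ R with hX
  have hWab : IsMulCommutative W := le_centralizer_iff_isMulCommutative.1 (centralizer_anti hQC)
  have hdec : X ⊔ W = Q := mcl_decomp hQ h.r_cl
  set O₁ := omegaOne p W with hO
  set O₀ := omegaOne p (W ⊓ R) with hO0
  have hO1 : IsElementaryAbelian p O₁ := Thompson.isElementaryAbelian_omegaOne hWab
  have hOW : O₁ ≤ W := Thompson.omegaOne_le _ _
  have hinf : O₁ ⊓ (W ⊓ R) = O₀ :=
    le_antisymm (fun g hg => Thompson.mem_omegaOne hg.2 (hO1.2 g hg.1))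
      (le_inf (Thompson.omegaOne_mono inf_le_left) (Thompson.omegaOne_le _ _))
  have hVn : ∀ H : Subgroup P, H ≤ normalizer (V : Set P) := fun H =>
    le_top.trans (normalizer_eq_top_iff.2 h.normal).ge
  have hO0V : O₀ ⊓ V = V ⊓ W :=
    le_antisymm (le_inf inf_le_right (inf_le_left.trans ((Thompson.omegaOne_le _ _).trans inf_le_left)))
      (le_inf (fun g hg => Thompson.mem_omegaOne ⟨hg.2, h.v_le hg.1⟩ (h.elem.2 g hg.1)) inf_le_left)
  have hlow : O₀ ⊔ V ≤ omegaOne p ((W ⊓ R) ⊔ V) := sup_le (Thompson.omegaOne_mono le_sup_left)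
    fun g hg => Thompson.mem_omegaOne (mem_sup_right hg) (h.elem.2 g hg)
  have hWn : O₁ ≤ normalizer ((W ⊓ R : Subgroup P) : Set P) :=
    (le_centralizer_iff.1 (inf_le_left.trans ((le_centralizer_iff_isMulCommutative.2 hWab).trans
      (centralizer_anti hOW)))).trans (centralizer_le_normalizer _)
  have e1 : Nat.card ↥(O₀ ⊔ V) * Nat.card ↥(V ⊓ W) = Nat.card O₀ * Nat.card V := by
    rw [← card_mul_inter O₀ V, ← coe_mul_of_left_le_normalizer_right O₀ V (hVn _), hO0V]
    rfl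
  have e2 : Nat.card ↥(O₁ ⊔ (W ⊓ R)) * Nat.card O₀ = Nat.card O₁ * Nat.card ↥(W ⊓ R) := by
    rw [← card_mul_inter O₁ (W ⊓ R), ← coe_mul_of_left_le_normalizer_right O₁ (W ⊓ R) hWn, hinf]
    rfl
  have hU : O₁ ⊔ (W ⊓ R) ≤ W := sup_le hOW inf_le_left
  set u := Nat.card ↥(O₁ ⊔ (W ⊓ R))
  set w := Nat.card W
  set r := Nat.card ↥(W ⊓ R)
  set v := Nat.card V
  set i := Nat.card ↥(V ⊓ W)
  set r₁ := Nat.card O₀
  set o := Nat.card O₁
  set o₂ := Nat.card ↥(omegaOne p ((W ⊓ R) ⊔ V))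
  have huw : u ≤ w := card_le_of_le hU
  have hr1 : 0 < r₁ := Nat.card_pos
  have hi : 0 < i := Nat.card_pos
  have hr : 0 < r := Nat.card_pos
  have key : r₁ * w ≤ o₂ * r := by
    refine Nat.le_of_mul_le_mul_left ?_ hi
    calc i * (r₁ * w) = r₁ * (i * w) := by ring
      _ = r * (r₁ * v) := by rw [← hrv]; ring
      _ = r * (Nat.card ↥(O₀ ⊔ V) * i) := by rw [e1]
      _ ≤ r * (o₂ * i) := by gcongr; exact card_le_of_le hlow
      _ = i * (o₂ * r) := by ring
  have hwu : w ≤ u := by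
    refine Nat.le_of_mul_le_mul_right ?_ hr1
    calc w * r₁ = r₁ * w := mul_comm _ _
      _ ≤ o₂ * r := key
      _ ≤ o * r := Nat.mul_le_mul_right _ hm
      _ = u * r₁ := e2.symm
  have heq : o ≤ o₂ := by
    refine Nat.le_of_mul_le_mul_right ?_ hr
    calc o * r = u * r₁ := e2.symm
      _ ≤ w * r₁ := Nat.mul_le_mul_right _ huw
      _ = r₁ * w := mul_comm _ _
      _ ≤ o₂ * r := key
  refine ⟨le_antisymm hm heq, ?_⟩
  have hQeq : Q = X ⊔ O₁ := by
    refine le_antisymm ?_ (sup_le inf_le_left (hOW.trans hQC))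
    conv_lhs => rw [← hdec, ← eq_of_le_of_card_ge hU hwu]
    exact sup_le le_sup_left (sup_le le_sup_right
      (le_sup_of_le_left (le_inf (inf_le_left.trans hQC) inf_le_right)))
  rw [phi_sup_central (le_centralizer_iff.1 (sup_le (inf_le_right.trans h.le_cent)
      (h.v_le.trans h.le_cent))) h.elem.2]
  conv_rhs => rw [hQeq]
  rw [phi_sup_central ?_ hO1.2]
  rw [← hQeq]
  exact hOW

end Cfsg.Agent.LAE65.Push
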