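import Cfsg.Agent.LAE65.Push.Bound
import Cfsg.Agent.LAE65.Push.Large

/-!
Pushing up: centrally large subgroups of `S` when `S` centralizes `Z(J(S))`.
-/

set_option autoImplicit false
set_option linter.style.haveILetI false
set_option linter.unusedSectionVars false

open Subgroup Cfsg
open scoped commutatorElement

namespace Cfsg.Agent.LAE65.Push

variable {G : Type*} [Group G] [Finite G] {p : ℕ} [hp : Fact p.Prime] {S M : Subgroup G}

theorem map_inf_centralizer {A : Subgroup G} (hA : A ≤ S) (Y : Subgroup S) :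
    (A.subgroupOf S ⊓ centralizer (Y : Set S)).map S.subtype =
      A ⊓ centralizer ((Y.map S.subtype : Subgroup G) : Set G) := by
  ext x
  constructor
  · rintro ⟨y, ⟨hyA, hyc⟩, rfl⟩
    refine ⟨hyA, mem_centralizer_iff.2 ?_⟩
    rintro _ ⟨z, hz, rfl⟩
    exact congrArg Subtype.val (mem_centralizer_iff.1 hyc z hz)
  · rintro ⟨hxA, hxc⟩
    exact ⟨⟨x, hA hxA⟩, ⟨hxA, mem_centralizer_iff.2 fun z hz =>
      Subtype.ext (mem_centralizer_iff.1 hxc z ⟨z, hz, rfl⟩)⟩, rfl⟩

section Transport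

variable {A B C : Type*} [Group A] [Group B] [Group C] [Finite A] [Finite B] [Finite C]
  {f : A →* C} {f' : B →* C} {Q : Subgroup A} {Q' : Subgroup B}

theorem card_eq_of_map_eq (hf : Function.Injective f) (hf' : Function.Injective f')
    (h : Q.map f = Q'.map f') :
    Nat.card Q = Nat.card Q' ∧ Nat.card ↥(center ↥Q) = Nat.card ↥(center ↥Q') ∧
      Nat.card ↥(omegaOneCenter p Q) = Nat.card ↥(omegaOneCenter p Q') := by
  refine ⟨?_, ?_, ?_⟩
  · rw [← card_map_of_injective hf (K := Q), h, card_map_of_injective hf']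
  · rw [card_center_eq, card_center_eq, ← card_map_of_injective hf, ← card_map_of_injective hf',
      LocalEven64.map_self_centralizer hf, LocalEven64.map_self_centralizer hf', h]
  · rw [omegaOneCenter, omegaOneCenter, ← card_map_of_injective hf, ← card_map_of_injective hf',
      Thompson.map_omegaOne f _ hf.injOn, Thompson.map_omegaOne f' _ hf'.injOn,
      LocalEven64.map_self_centralizer hf, LocalEven64.map_self_centralizer hf', h]

theorem mcl_of_map_eq {Q' : Subgroup A} {f' : A →* C} (hf : Function.Injective f)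
    (hf' : Function.Injective f') (h : Q.map f = Q'.map f') (hQ : IsMinimalCentrallyLarge Q) :
    IsMinimalCentrallyLarge Q' := by
  obtain ⟨h1, h2, -⟩ := card_eq_of_map_eq (p := 2) hf hf' h
  have hcl : IsCentrallyLarge Q' := by
    show Nat.card Q' * Nat.card ↥(center ↥Q') = _
    rw [← h1, ← h2]
    exact hQ.1
  exact mcl_of_card_le hQ hcl h1.ge

theorem map_phi (q : ℕ) (f : A →* C) (Q : Subgroup A) : (phi q Q).map f = phi q (Q.map f) := by
  rw [phi, phi, Subgroup.map_sup, MonoidHom.map_closure, map_commutator]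
  congr 2
  ext x
  constructor
  · rintro ⟨_, ⟨y, hy, rfl⟩, rfl⟩
    exact ⟨f y, ⟨y, hy, rfl⟩, (map_pow f y q).symm⟩
  · rintro ⟨_, ⟨y, hy, rfl⟩, rfl⟩
    exact ⟨_, ⟨y, hy, rfl⟩, map_pow f y q⟩

theorem mcl_derived_eq {Q R : Subgroup A} (hQ : IsMinimalCentrallyLarge Q)
    (hR : IsMinimalCentrallyLarge R) : ⁅Q, Q⁆ = ⁅R, R⁆ :=
  le_antisymm (mcl_commutator hQ hR.1) (mcl_commutator hR hQ.1)

theorem mcl_derived_characteristic {Q : Subgroup A} (hQ : IsMinimalCentrallyLarge Q) :
    (⁅Q, Q⁆).Characteristic := by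
  rw [characteristic_iff_map_eq]
  intro φ
  rw [map_commutator]
  refine mcl_derived_eq (mcl_of_map_eq (f := φ.toMonoidHom) (f' := MonoidHom.id A) φ.injective
    Function.injective_id ?_ hQ) hQ
  rw [map_id]

end Transport

theorem omega_fixed {V : Subgroup G} (hVab : IsMulCommutative V) (hVp : IsPGroup p V) {g : G}
    (hgn : ∀ v ∈ V, g * v * g⁻¹ ∈ V) (hg : (orderOf g).Coprime p)
    (hfix : ∀ v ∈ omegaOne p V, Commute g v) : ∀ v ∈ V, Commute g v := by
  have main : ∀ k, ∀ v ∈ V, v ^ p ^ k = 1 → Commute g v := by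
    intro k
    induction k with
    | zero =>
      intro v _ hv
      rw [pow_zero, pow_one] at hv
      rw [hv]
      exact Commute.one_right g
    | succ k ih =>
      intro v hv hvk
      have hvp : Commute g (v ^ p) := ih _ (V.pow_mem hv p) (by rw [← pow_mul, ← pow_succ', hvk])
      have hd : ⁅g, v⁆ ∈ V := by
        rw [commutatorElement_def]
        exact V.mul_mem (hgn v hv) (V.inv_mem hv)
      have hcomm : Commute (g * v * g⁻¹) v⁻¹ :=
        Thompson.elemAb_comm hVab (hgn v hv) (V.inv_mem hv)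
      have hdp : ⁅g, v⁆ ^ p = 1 := by
        rw [commutatorElement_def, hcomm.mul_pow, inv_pow, ← MulAut.conj_apply, ← map_pow,
          MulAut.conj_apply, hvp.eq, mul_inv_cancel_right, mul_inv_cancel]
      have hdg := hfix _ (Thompson.mem_omegaOne hd hdp)
      exact LocalEven64.commute_of_commutator_commute hVp hd hdg hg
  intro v hv
  obtain ⟨k, hk⟩ := hVp ⟨v, hv⟩
  exact main k v hv (congrArg Subtype.val hk)

/-- The data in `S`. -/
theorem exists_bounded (h : Setup p S M) (hJ : S ≤ centralizer (centerThompsonAOf S : Set G))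
    (hZ : ¬ (S ⊓ centralizer (S : Set G)).Normal) :
    ∃ V : Subgroup G, V.Normal ∧ Bounded p ((pCore p G).subgroupOf S) (V.subgroupOf S) := by
  set Zs := S ⊓ centralizer (S : Set G) with hZs
  set ZR := pCore p G ⊓ centralizer (pCore p G : Set G) with hZR
  set Vf := normalClosure (Zs : Set G) with hVf
  have hZsR : Zs ≤ ZR := by
    have hc : Zs ≤ centralizer (pCore p G : Set G) := inf_le_right.trans (centralizer_le h.pCore_le)
    exact le_inf (hc.trans h.self_cent) hc
  haveI : ZR.Normal := inferInstance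
  have hVfZ : Vf ≤ ZR := normalClosure_le_normal hZsR
  have hVfab : IsMulCommutative Vf :=
    Thompson.isMulCommutative_of_le
      (⟨⟨fun a b => Subtype.ext (mem_centralizer_iff.mp b.2.2 a a.2.1)⟩⟩ : IsMulCommutative ZR)
      hVfZ
  set V := omegaOne p Vf with hV
  have hVVf : V ≤ Vf := Thompson.omegaOne_le _ _
  have hVR : V ≤ pCore p G := hVVf.trans (hVfZ.trans inf_le_left)
  have hRV : pCore p G ≤ centralizer (V : Set G) :=
    le_centralizer_iff.1 (hVVf.trans (hVfZ.trans inf_le_right))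
  have hVn : V.Normal := by
    refine ⟨fun v hv g => ?_⟩
    have hm : V.map (MulAut.conj g).toMonoidHom = V := by
      rw [hV, Thompson.map_omegaOne _ _ (MulAut.conj g).injective.injOn,
        mem_normalizer_iff_map.1 ((normalizer_eq_top_iff.2 (normalClosure_normal : Vf.Normal)).symm ▸
          mem_top g)]
    rw [← hm]
    exact ⟨v, hv, rfl⟩
  have hVel : IsElementaryAbelian p V := Thompson.isElementaryAbelian_omegaOne hVfab
  have hnt : ¬ pResidual p G ≤ centralizer (V : Set G) := by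
    intro hO
    apply hZ
    have hcent : centralizer (Zs : Set G) = ⊤ := by
      rw [eq_top_iff, ← h.sup_residual]
      refine sup_le (le_centralizer_iff.1 inf_le_right) ?_
      rw [Transfer.pResidual_le_iff]
      intro g hg
      rw [mem_centralizer_iff]
      intro z hz
      refine (omega_fixed hVfab ((Thompson.isPGroup_pCore (p := p)).to_le (hVfZ.trans inf_le_left))
        (fun v hv => (normalClosure_normal : Vf.Normal).conj_mem v hv g) hg (fun v hv => ?_)
        z (subset_normalClosure hz)).eq.symm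
      exact (mem_centralizer_iff.1 (hO (Transfer.mem_pResidual_of_coprime hg)) v hv).symm
    refine ⟨fun z hz g => ?_⟩
    have := mem_centralizer_iff.1 ((hcent.symm ▸ mem_top g : g ∈ centralizer (Zs : Set G))) z hz
    rw [← this, mul_inv_cancel_right]
    exact hz
  have hRS := h.pCore_le
  refine ⟨V, hVn, ?_, ?_, ?_, ?_, hVn.subgroupOf S, ?_, ?_⟩
  · exact comap_mono hVR
  · intro r hr
    rw [mem_centralizer_iff]
    intro v hv
    exact Subtype.ext (mem_centralizer_iff.1 (hRV hr) v hv)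
  · intro x hx
    refine h.self_cent (mem_centralizer_iff.2 fun r hr => ?_)
    exact congrArg Subtype.val (mem_centralizer_iff.1 hx ⟨r, hRS hr⟩ hr)
  · exact Thompson.isElementaryAbelian_subgroupOf hVel S
  · intro Y
    have hb := offender_bound h hVn hVel hRV hnt (Q := Y.map S.subtype) (map_subtype_le _)
    rw [← map_inf_centralizer (hVR.trans hRS), card_map_of_injective S.subtype_injective,
      card_map_of_injective S.subtype_injective] at hb
    have e : Y.map S.subtype ⊓ pCore p G = (Y ⊓ (pCore p G).subgroupOf S).map S.subtype := by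
      rw [map_inf _ _ _ S.subtype_injective, subgroupOf_map_subtype, inf_eq_left.2 h.pCore_le]
    rw [e, card_map_of_injective S.subtype_injective,
      ← Thompson.card_subgroupOf_of_le (hVR.trans hRS)] at hb
    exact hb
  · obtain ⟨Q, hQ⟩ := exists_cl (P := ↥S)
    have htop : (⊤ : Subgroup ↥S) ≤ Q ⊔ thompsonSubgroupA ↥S := by
      refine le_trans (fun s _ => ?_) (jTilde_le hQ)
      rw [mem_centralizer_iff]
      intro z hz
      refine Subtype.ext (mem_centralizer_iff.1 (hJ s.2) z ⟨⟨z, hz.1, rfl⟩, mem_centralizer_iff.2 ?_⟩)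
      rintro _ ⟨j, hj, rfl⟩
      exact congrArg Subtype.val (mem_centralizer_iff.1 hz.2 j hj)
    rw [← top_le_iff.1 htop]
    exact cl_sup_thompson hQ

/-- Conjugates of minimal centrally large subgroups contained in `O_p(G)`. -/
theorem conj_mcl (h : Setup p S M) {Q : Subgroup S} (hQ : IsMinimalCentrallyLarge Q)
    (hQR : Q ≤ (pCore p G).subgroupOf S) (g : G) :
    ∃ Q' : Subgroup S, IsMinimalCentrallyLarge Q' ∧
      Q'.map S.subtype = (Q.map S.subtype).map (MulAut.conj g).toMonoidHom ∧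
      Nat.card ↥(omegaOneCenter p Q') = Nat.card ↥(omegaOneCenter p Q) := by
  set H := (Q.map S.subtype).map (MulAut.conj g).toMonoidHom with hH
  have hHR : H ≤ pCore p G := by
    rintro _ ⟨_, ⟨x, hx, rfl⟩, rfl⟩
    exact (inferInstance : (pCore p G).Normal).conj_mem _ (hQR hx) g
  have hmap : (H.subgroupOf S).map S.subtype = H := map_subgroupOf_eq_of_le (hHR.trans h.pCore_le)
  have hf : Function.Injective ((MulAut.conj g).toMonoidHom.comp S.subtype) :=
    (MulAut.conj g).injective.comp S.subtype_injective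
  have he : Q.map ((MulAut.conj g).toMonoidHom.comp S.subtype) = (H.subgroupOf S).map S.subtype := by
    rw [hmap, hH, Subgroup.map_map]
  exact ⟨H.subgroupOf S, mcl_of_map_eq hf S.subtype_injective he hQ, hmap,
    (card_eq_of_map_eq hf S.subtype_injective he).2.2.symm⟩

theorem normal_of_le_map {H : Subgroup G} (hH : ∀ g : G, H.map (MulAut.conj g).toMonoidHom ≤ H) :
    H.Normal :=
  ⟨fun x hx g => hH g ⟨x, hx, rfl⟩⟩

theorem normal_of_center_normal (h : Setup p S M) (hn : (S ⊓ centralizer (S : Set G)).Normal)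
    {Z : Subgroup G} (hZ : Z ≤ S ⊓ centralizer (S : Set G)) : Z.Normal := by
  haveI := hn
  have htop : centralizer ((S ⊓ centralizer (S : Set G) : Subgroup G) : Set G) = ⊤ :=
    h.normal_eq_top _ inferInstance (le_centralizer_iff.1 inf_le_right)
  refine ⟨fun z hz g => ?_⟩
  have := mem_centralizer_iff.1 ((htop.symm ▸ mem_top g : g ∈ centralizer _)) z (hZ hz)
  rw [← this, mul_inv_cancel_right]
  exact hz

theorem derived_or_mclJoin_normal (h : Setup p S M)
    (hJ : S ≤ centralizer (centerThompsonAOf S : Set G)) {Q : Subgroup S}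
    (hQ : IsMinimalCentrallyLarge Q) :
    ((S ⊓ centralizer (S : Set G)) ⊓ (⁅Q, Q⁆).map S.subtype).Normal ∨
      ((minimalCentrallyLargeJoin ↥S).map S.subtype).Normal := by
  by_cases hZ : (S ⊓ centralizer (S : Set G)).Normal
  · exact Or.inl (normal_of_center_normal h hZ inf_le_left)
  obtain ⟨V, hVn, hb⟩ := exists_bounded h hJ hZ
  set R' := (pCore p G).subgroupOf S with hR'
  by_cases hall : ∀ Q' : Subgroup S, IsMinimalCentrallyLarge Q' → Q' ≤ R'
  · right
    refine normal_of_le_map fun g => ?_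
    rw [map_le_iff_le_comap, map_le_iff_le_comap, minimalCentrallyLargeJoin, sSup_le_iff]
    intro Q' hQ'
    obtain ⟨Q'', hQ'', he, -⟩ := conj_mcl h hQ' (hall Q' hQ') g
    rw [← map_le_iff_le_comap, ← map_le_iff_le_comap, ← he]
    exact map_mono (le_sSup (show Q'' ∈ {R | IsMinimalCentrallyLarge R} from hQ''))
  left
  push Not at hall
  obtain ⟨Q₁, hQ₁, hQ₁R⟩ := hall
  set N₀ := (⁅Q, Q⁆).map S.subtype with hN₀
  obtain ⟨hQ₀, -, -⟩ := hb.replacement hQ
  have hQ₀R : (Q ⊓ R') ⊔ V.subgroupOf S ≤ R' := sup_le inf_le_right hb.v_le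
  have hN₀n : N₀.Normal := by
    refine normal_of_le_map fun g => le_of_eq ?_
    obtain ⟨Q', hQ', he, -⟩ := conj_mcl h hQ₀ hQ₀R g
    rw [hN₀, mcl_derived_eq hQ hQ₀, map_commutator, map_commutator, ← he, ← map_commutator,
      ← map_commutator, mcl_derived_eq hQ₀ hQ']
  haveI := hN₀n
  set D := N₀ ⊓ centralizer (pCore p G : Set G) with hD
  haveI : D.Normal := inferInstance
  obtain ⟨w, hw, hwR⟩ := SetLike.not_le_iff_exists.1 (hb.not_le_of_not_le hQ₁ hQ₁R)
  have hwD : (w : G) ∈ centralizer (D : Set G) := by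
    rw [mem_centralizer_iff]
    intro d hd
    obtain ⟨d', hd', rfl⟩ := (inf_le_left : D ≤ N₀) hd
    rw [SetLike.mem_coe, mcl_derived_eq hQ hQ₁] at hd'
    have hd1 : d' ∈ Q₁ :=
      (le_normalizer_iff_commutator_le_left.1 le_normalizer : ⁅Q₁, Q₁⁆ ≤ Q₁) hd'
    exact congrArg Subtype.val (mem_centralizer_iff.1 hw d' hd1)
  have htop : centralizer (D : Set G) ⊔ S = ⊤ := by
    by_contra hne
    have hle := h.le_of_ne_top _ hne le_sup_right
    obtain ⟨x, -, hx⟩ := SetLike.exists_of_lt (h.coatom.lt_top)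
    refine hwR (h.inter x hx (mem_inf.2 ⟨w.2, x⁻¹ * w * x, hle (mem_sup_left ?_), by simp [mul_assoc]⟩))
    simpa using (inferInstance : (centralizer (D : Set G)).Normal).conj_mem _ hwD x⁻¹
  refine ⟨fun z hz g => ?_⟩
  have hzD : z ∈ D := ⟨hz.2, centralizer_le h.pCore_le hz.1.2⟩
  have hg : g ∈ centralizer ({z} : Set G) := by
    refine (sup_le ?_ ?_ : centralizer (D : Set G) ⊔ S ≤ centralizer ({z} : Set G)) (htop ▸ mem_top g)
    · exact centralizer_le (Set.singleton_subset_iff.2 hzD)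
    · exact fun s hs => mem_centralizer_singleton_iff.2 (mem_centralizer_iff.1 hz.1.2 s hs)
  rw [mem_centralizer_singleton_iff] at hg
  rw [hg, mul_inv_cancel_right]
  exact hz

theorem exists_max_mz (S : Subgroup G) (p : ℕ) :
    ∃ Q : Subgroup S, IsMinimalCentrallyLarge Q ∧
      Nat.card ↥(omegaOneCenter p Q) = maxOmegaCenterOfMinimalCL p ↥S := by
  have hbd : BddAbove {k : ℕ | ∃ Q : Subgroup ↥S,
      IsMinimalCentrallyLarge Q ∧ Nat.card ↥(omegaOneCenter p Q) = k} :=
    ((Set.finite_range fun Q : Subgroup ↥S => Nat.card ↥(omegaOneCenter p Q)).subset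
      (by rintro k ⟨Q, -, rfl⟩; exact ⟨Q, rfl⟩)).bddAbove
  obtain ⟨Q₀, hQ₀⟩ := exists_cl (P := ↥S)
  obtain ⟨Q, -, hQ⟩ := exists_mcl_le hQ₀
  exact Nat.sSup_mem (s := {k : ℕ | ∃ Q : Subgroup ↥S,
      IsMinimalCentrallyLarge Q ∧ Nat.card ↥(omegaOneCenter p Q) = k}) ⟨_, Q, hQ, rfl⟩ hbd

theorem le_mz {S : Subgroup G} {Q : Subgroup S} (hQ : IsMinimalCentrallyLarge Q) :
    Nat.card ↥(omegaOneCenter p Q) ≤ maxOmegaCenterOfMinimalCL p ↥S := by
  refine le_csSup ?_ ⟨Q, hQ, rfl⟩
  exact ((Set.finite_range fun Q : Subgroup ↥S => Nat.card ↥(omegaOneCenter p Q)).subset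
      (by rintro k ⟨Q, -, rfl⟩; exact ⟨Q, rfl⟩)).bddAbove

theorem center_or_frattiniJoin_normal (h : Setup p S M)
    (hJ : S ≤ centralizer (centerThompsonAOf S : Set G)) :
    (S ⊓ centralizer (S : Set G)).Normal ∨ ((frattiniOfMinimalCLJoin p ↥S).map S.subtype).Normal := by
  by_cases hZ : (S ⊓ centralizer (S : Set G)).Normal
  · exact Or.inl hZ
  obtain ⟨V, hVn, hb⟩ := exists_bounded h hJ hZ
  right
  refine normal_of_le_map fun g => ?_
  rw [map_le_iff_le_comap, map_le_iff_le_comap, frattiniOfMinimalCLJoin, iSup_le_iff]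
  rintro ⟨Q, hQ, hQm⟩
  rw [← map_le_iff_le_comap, ← map_le_iff_le_comap]
  have hP : ∀ H : Subgroup S, IsPGroup p H := fun H => h.isPGroup.to_subgroup H
  obtain ⟨hQ₂, -, -⟩ := hb.replacement hQ
  obtain ⟨hcard, hphi⟩ := hb.replacement_phi hQ (fun Q' hQ' => hQm ▸ le_mz hQ')
  obtain ⟨Q', hQ', he, hcard'⟩ := conj_mcl h hQ₂ (sup_le inf_le_right hb.v_le) g
  have hQ'm : Nat.card ↥(omegaOneCenter p Q') = maxOmegaCenterOfMinimalCL p ↥S :=
    hcard'.trans (hcard.trans hQm)
  rw [map_frattini_eq_phi (hP Q), ← hphi, map_phi, map_phi, ← he, ← map_phi,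
    ← map_frattini_eq_phi (hP Q')]
  exact map_mono (le_iSup (fun Q : {Q : Subgroup ↥S // IsMinimalCentrallyLarge Q ∧
    Nat.card ↥(omegaOneCenter p Q) = maxOmegaCenterOfMinimalCL p ↥S} =>
      (frattini ↥(Q : Subgroup ↥S)).map (Q : Subgroup ↥S).subtype) ⟨Q', hQ', hQ'm⟩)

theorem frattiniJoin_eq_bot {S : Subgroup G} (hS : IsPGroup p S)
    (h : frattiniOfMinimalCLJoin p ↥S = ⊥) :
    (∀ Q : Subgroup ↥S, IsMinimalCentrallyLarge Q ↔ Q ∈ maxAbelianSubgroups ↥S) ∧
      ∃ A ∈ maxAbelianSubgroups ↥S, IsElementaryAbelian p A := by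
  obtain ⟨Q, hQ, hQm⟩ := exists_max_mz S p
  have hphi : phi p Q = ⊥ := by
    rw [eq_bot_iff, ← h, ← map_frattini_eq_phi (hS.to_subgroup Q)]
    exact le_iSup (fun Q : {Q : Subgroup ↥S // IsMinimalCentrallyLarge Q ∧
      Nat.card ↥(omegaOneCenter p Q) = maxOmegaCenterOfMinimalCL p ↥S} =>
        (frattini ↥(Q : Subgroup ↥S)).map (Q : Subgroup ↥S).subtype) ⟨Q, hQ, hQm⟩
  rw [phi, sup_eq_bot_iff, commutator_eq_bot_iff_le_centralizer, closure_eq_bot_iff] at hphi
  have hel : IsElementaryAbelian p Q :=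
    ⟨le_centralizer_iff_isMulCommutative.1 hphi.2, fun x hx => hphi.1 ⟨x, hx, rfl⟩⟩
  exact ⟨abelian_mcl_iff hQ hel.1, Q, (abelian_mcl_iff hQ hel.1 Q).1 hQ, hel⟩

end Cfsg.Agent.LAE65.Push
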