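import Cfsg.Prelude.Def_BaumannBlocks
import Cfsg.Agent.Lib.LinearGroup.SylowChar
import Cfsg.Agent.LAE65.NaturalModule
import Cfsg.Agent.LAE65.Basic
import Cfsg.Agent.Lib.Thompson.Cores
import Cfsg.Agent.Lib.Transfer.Residual
import Cfsg.Agent.Lib.Transfer.Focal

/-!
The basic pushing-up situation: the facts about the Sylow subgroup `S` and its maximal overgroup `M`.
-/

set_option autoImplicit false
set_option linter.style.haveILetI false

open Subgroup Cfsg
open scoped MatrixGroups

namespace Cfsg.Agent.LAE65.Push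

variable {G : Type*} [Group G]

/-- What is used of the basic pushing-up situation. -/
structure Setup (p : ℕ) (S M : Subgroup G) : Prop where
  sylow : ∃ P : Sylow p G, (P : Subgroup G) = S
  self_cent : centralizer (pCore p G : Set G) ≤ pCore p G
  coatom : IsCoatom M
  le_M : S ≤ M
  le_of_ne_top : ∀ H : Subgroup G, H ≠ ⊤ → S ≤ H → H ≤ M
  inter : ∀ x : G, x ∉ M → S ⊓ M.map (MulAut.conj x).toMonoidHom ≤ pCore p G
  normal_eq_top : ∀ N : Subgroup G, N.Normal → S ≤ N → N = ⊤

section PSL

variable {F : Type*} [Field F] [Fintype F] {p : ℕ} [hp : Fact p.Prime]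

theorem charP_of_card {n : ℕ} (hF : Fintype.card F = p ^ n) : CharP F p := by
  obtain ⟨k, hr, hk⟩ := FiniteField.card F (ringChar F)
  have hn : n ≠ 0 := fun h => by
    rw [h, pow_zero] at hF
    exact absurd hF Fintype.one_lt_card.ne'
  have hrp : ringChar F = p := by
    have hd : p ∣ ringChar F ^ (k : ℕ) := by rw [← hk, hF]; exact dvd_pow_self p hn
    exact ((Nat.prime_dvd_prime_iff_eq hp.out hr).1 (hp.out.dvd_of_dvd_pow hd)).symm
  exact hrp ▸ ringChar.charP F

variable [CharP F p]

theorem eq_one_of_center_pow {c : SL(2, F)} (hc : c ∈ center SL(2, F)) {k : ℕ}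
    (h : c ^ p ^ k = 1) : c = 1 := by
  obtain ⟨a, -, hca⟩ := Matrix.SpecialLinearGroup.mem_center_iff.1 hc
  have h1 : (Matrix.scalar (Fin 2)) (a ^ p ^ k) = 1 := by
    rw [map_pow, hca, ← Matrix.SpecialLinearGroup.coe_pow, h, Matrix.SpecialLinearGroup.coe_one]
  have h2 : a ^ p ^ k = 1 := by
    have := congrArg (fun A : Matrix (Fin 2) (Fin 2) F => A 0 0) h1
    simpa using this
  haveI : ExpChar F p := ExpChar.prime hp.out
  have h3 : iterateFrobenius F p k a = iterateFrobenius F p k 1 := by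
    simp only [iterateFrobenius_def, h2, one_pow]
  have h4 : a = 1 := (iterateFrobenius F p k).injective h3
  apply Subtype.ext
  show (c : Matrix (Fin 2) (Fin 2) F) = _
  rw [← hca, h4, map_one, Matrix.SpecialLinearGroup.coe_one]

theorem psl_inf_eq_bot (A B : Sylow p (Matrix.ProjectiveSpecialLinearGroup (Fin 2) F))
    (h : A ≠ B) : A.toSubgroup ⊓ B.toSubgroup = ⊥ := by
  let f : SL(2, F) →* Matrix.ProjectiveSpecialLinearGroup (Fin 2) F :=
    QuotientGroup.mk' (center SL(2, F))
  have hf : Function.Surjective f := QuotientGroup.mk'_surjective _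
  obtain ⟨A', rfl⟩ := Sylow.mapSurjective_surjective hf p A
  obtain ⟨B', rfl⟩ := Sylow.mapSurjective_surjective hf p B
  rw [eq_bot_iff]
  rintro z ⟨⟨a, ha, rfl⟩, ⟨b, hb, hab⟩⟩
  have hc : a⁻¹ * b ∈ center SL(2, F) := by
    rw [← QuotientGroup.eq_one_iff]
    show f (a⁻¹ * b) = 1
    rw [map_mul, map_inv, hab, inv_mul_cancel]
  have hcomm : Commute a⁻¹ b := by
    have h1 : Commute (a⁻¹ * b) a⁻¹ := (mem_center_iff.1 hc a⁻¹).symm
    show a⁻¹ * b = b * a⁻¹
    have := h1.eq
    calc a⁻¹ * b = a * (a⁻¹ * (a⁻¹ * b)) := by group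
      _ = a * ((a⁻¹ * b) * a⁻¹) := by rw [this]
      _ = b * a⁻¹ := by group
  obtain ⟨i, hi⟩ := A'.isPGroup' ⟨a, ha⟩
  obtain ⟨j, hj⟩ := B'.isPGroup' ⟨b, hb⟩
  have hi' : a ^ p ^ i = 1 := congrArg Subtype.val hi
  have hj' : b ^ p ^ j = 1 := congrArg Subtype.val hj
  have he : a = b := by
    refine inv_mul_eq_one.1 (eq_one_of_center_pow hc (k := i + j) ?_)
    rw [hcomm.mul_pow, inv_pow, pow_add, pow_mul, hi', one_pow, inv_one, one_mul, mul_comm,
      pow_mul, hj', one_pow]
  have hne : A' ≠ B' := fun h' => h (by rw [h'])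
  have h5 : a = 1 :=
    mem_bot.1 ((LinearGroup.sylow_inf_eq_bot_SL_two p A' B' hne) ▸ (⟨ha, he ▸ hb⟩ : a ∈ (A' : Subgroup _) ⊓ B'))
  rw [h5, map_one]
  exact one_mem _

theorem psl_sup_eq_top (A B : Sylow p (Matrix.ProjectiveSpecialLinearGroup (Fin 2) F))
    (h : A ≠ B) : A.toSubgroup ⊔ B.toSubgroup = ⊤ := by
  let f : SL(2, F) →* Matrix.ProjectiveSpecialLinearGroup (Fin 2) F :=
    QuotientGroup.mk' (center SL(2, F))
  have hf : Function.Surjective f := QuotientGroup.mk'_surjective _
  obtain ⟨A', rfl⟩ := Sylow.mapSurjective_surjective hf p A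
  obtain ⟨B', rfl⟩ := Sylow.mapSurjective_surjective hf p B
  have hne : A' ≠ B' := fun h' => h (by rw [h'])
  show (A' : Subgroup SL(2, F)).map f ⊔ (B' : Subgroup SL(2, F)).map f = ⊤
  rw [← Subgroup.map_sup, LinearGroup.sylow_sup_eq_top_SL_two p A' B' hne,
    Subgroup.map_top_of_surjective f hf]

theorem psl_exists_ne (A : Sylow p (Matrix.ProjectiveSpecialLinearGroup (Fin 2) F)) :
    ∃ B, B ≠ A := by
  by_contra hcon
  push Not at hcon
  let f : SL(2, F) →* Matrix.ProjectiveSpecialLinearGroup (Fin 2) F :=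
    QuotientGroup.mk' (center SL(2, F))
  have hf : Function.Surjective f := QuotientGroup.mk'_surjective _
  have hu : IsPGroup p (Multiplicative F) := by
    obtain ⟨k, -, hk⟩ := LinearGroup.exists_natCard_eq_pow (F := F) p
    exact IsPGroup.of_card (n := k) (by rw [Nat.card_congr Multiplicative.toAdd, hk])
  let uH : Multiplicative F →* SL(2, F) :=
    { toFun := fun b => Natural.uMat (Multiplicative.toAdd b)
      map_one' := Natural.uMat_zero
      map_mul' := fun a b => Natural.uMat_add _ _ }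
  let lH : Multiplicative F →* SL(2, F) :=
    { toFun := fun b => Natural.lMat (Multiplicative.toAdd b)
      map_one' := Natural.lMat_zero
      map_mul' := fun a b => Natural.lMat_add _ _ }
  obtain ⟨x, hxe, hxc⟩ : ∃ x : SL(2, F), x = Natural.uMat 1 ∧ (x ∈ center SL(2, F) → False) :=
    ⟨Natural.uMat 1, rfl, fun h => by
      have := congrArg (fun A : SL(2, F) => (A : Matrix (Fin 2) (Fin 2) F) 0 0)
        (mem_center_iff.1 h (Natural.lMat 1))
      simp [Natural.uMat_coe, Natural.lMat_coe, Matrix.mul_apply, Fin.sum_univ_two] at this⟩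
  obtain ⟨U, hU⟩ := (hu.of_surjective uH.rangeRestrict uH.rangeRestrict_surjective).exists_le_sylow
  obtain ⟨L, hL⟩ := (hu.of_surjective lH.rangeRestrict lH.rangeRestrict_surjective).exists_le_sylow
  by_cases hUL : U = L
  · have : (U : Subgroup SL(2, F)) = ⊤ := Natural.eq_top_of_uMat_lMat
      (fun b => hU ⟨Multiplicative.ofAdd b, rfl⟩)
      (fun b => hUL ▸ hL ⟨Multiplicative.ofAdd b, rfl⟩)
    have hall : ∀ P : Sylow p SL(2, F), P = U := fun P =>
      Sylow.ext (P.is_maximal' U.isPGroup' (le_top.trans this.ge)).symm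
    have hcard := LinearGroup.card_sylow_SL_two p U
    rw [this, Subgroup.card_top, LinearGroup.card_SL_two] at hcard
    have h1 : 1 < Nat.card F := Finite.one_lt_card
    have h2 : 1 < Nat.card F ^ 2 - 1 := by
      have : 4 ≤ Nat.card F ^ 2 := by nlinarith
      omega
    nlinarith
  · have h1 := hcon (U.mapSurjective hf)
    have h2 := hcon (L.mapSurjective hf)
    have h3 : (U : Subgroup SL(2, F)).map f = (L : Subgroup SL(2, F)).map f := by
      have := h1.trans h2.symm
      exact congrArg Sylow.toSubgroup this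
    apply hxc
    have hmem : f x ∈ (L : Subgroup SL(2, F)).map f := h3 ▸ ⟨x, hU ⟨Multiplicative.ofAdd 1, hxe.symm⟩, rfl⟩
    obtain ⟨y, hy, hyx⟩ := hmem
    have hc : y⁻¹ * x ∈ center SL(2, F) := by
      rw [← QuotientGroup.eq_one_iff]
      show f (y⁻¹ * x) = 1
      rw [map_mul, map_inv, hyx, inv_mul_cancel]
    have hyU : x⁻¹ * y ∈ center SL(2, F) := by simpa using inv_mem hc
    -- `x = y c` with `c` central, so the `p`-elements `x` and `y` commute and `c` is a `p`-element
    obtain ⟨i, hi⟩ := U.isPGroup' ⟨x, hU ⟨Multiplicative.ofAdd 1, hxe.symm⟩⟩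
    obtain ⟨j, hj⟩ := L.isPGroup' ⟨y, hy⟩
    have hi' : x ^ p ^ i = 1 := congrArg Subtype.val hi
    have hj' : y ^ p ^ j = 1 := congrArg Subtype.val hj
    have hcomm : Commute y⁻¹ x := by
      have h4 : Commute (y⁻¹ * x) y⁻¹ := (mem_center_iff.1 hc y⁻¹).symm
      calc y⁻¹ * x = y * (y⁻¹ * (y⁻¹ * x)) := by group
        _ = y * ((y⁻¹ * x) * y⁻¹) := by rw [h4.eq]
        _ = x * y⁻¹ := by group
    have he : y = x := by
      refine inv_mul_eq_one.1 (eq_one_of_center_pow hc (k := i + j) ?_)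
      rw [hcomm.mul_pow, inv_pow, pow_add, pow_mul x, hi', one_pow, mul_one, mul_comm (p ^ i),
        pow_mul y, hj', one_pow, inv_one]
    have h6 : x = 1 := mem_bot.1 ((LinearGroup.sylow_inf_eq_bot_SL_two p U L hUL) ▸
      (⟨hU ⟨Multiplicative.ofAdd 1, hxe.symm⟩, he ▸ hy⟩ : x ∈ (U : Subgroup _) ⊓ L))
    rw [h6]
    exact one_mem _

end PSL

theorem exists_setup [Finite G] {p : ℕ} [hp : Fact p.Prime] {S : Subgroup G}
    (h : IsPushingUpSituation p S) : ∃ M, Setup p S M := by
  obtain ⟨-, ⟨P, hP⟩, hcore, ⟨M, ⟨hMc, hSM⟩, huniq⟩, K, hK, F, _, _, n, hF, ⟨e⟩⟩ := h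
  subst hP
  haveI := hK
  haveI : CharP F p := charP_of_card hF
  have hle : ∀ H : Subgroup G, H ≠ ⊤ → (P : Subgroup G) ≤ H → H ≤ M := fun H hH hPH => by
    obtain ⟨N, hN, hHN⟩ := (eq_top_or_exists_le_coatom H).resolve_left hH
    exact huniq N ⟨hN, hPH.trans hHN⟩ ▸ hHN
  let π : G →* Matrix.ProjectiveSpecialLinearGroup (Fin 2) F := e.toMonoidHom.comp (QuotientGroup.mk' K)
  have hπ : Function.Surjective π := e.surjective.comp (QuotientGroup.mk'_surjective K)
  have hker : π.ker = K := by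
    ext g
    simp [π, MonoidHom.mem_ker]
  let PS := P.mapSurjective hπ
  obtain ⟨B, hB⟩ := psl_exists_ne PS
  -- the preimage of the normalizer of the image of `S` is proper
  have hNne : normalizer ((PS.toSubgroup : Set (Matrix.ProjectiveSpecialLinearGroup (Fin 2) F))) ≠ ⊤ := fun hN => hB <| by
    haveI : PS.toSubgroup.Normal := normalizer_eq_top_iff.1 hN
    exact @Subsingleton.elim _ (@Unique.instSubsingleton _ (Sylow.unique_of_normal PS inferInstance)) _ _
  have hNcomap : (normalizer ((PS.toSubgroup : Set (Matrix.ProjectiveSpecialLinearGroup (Fin 2) F)))).comap π ≤ M := by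
    refine hle _ ?_ ?_
    · intro htop
      exact hNne (by rw [← map_comap_eq_self_of_surjective hπ (normalizer _), htop,
        map_top_of_surjective π hπ])
    · intro s hs
      exact le_normalizer (mem_map_of_mem π hs)
  have hKM : K ≤ M := by
    refine le_trans ?_ hNcomap
    rw [← hker]
    exact MonoidHom.ker_le_comap π _
  -- every element of `π(M)` normalizes the image of `S`
  have hMN : M.map π ≤ normalizer ((PS.toSubgroup : Set (Matrix.ProjectiveSpecialLinearGroup (Fin 2) F))) := by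
    rintro _ ⟨m, hm, rfl⟩
    by_contra hn
    have hne : (MulAut.conj (π m) • PS : Sylow p _) ≠ PS := fun h => hn (Sylow.smul_eq_iff_mem_normalizer.1 h)
    have htop := psl_sup_eq_top _ _ hne
    have hle' : (MulAut.conj (π m) • PS : Sylow p _).toSubgroup ⊔ (PS : Subgroup _) ≤ M.map π := by
      refine sup_le ?_ (map_mono hSM)
      rintro _ ⟨y, hy, rfl⟩
      exact mul_mem (mul_mem (mem_map_of_mem π hm) (map_mono hSM hy)) (inv_mem (mem_map_of_mem π hm))
    rw [htop, top_le_iff] at hle'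
    refine hMc.1 ?_
    rw [← comap_map_eq_self (hker.le.trans hKM), hle', comap_top]
  refine ⟨M, ⟨P, rfl⟩, hcore, hMc, hSM, hle, ?_, ?_⟩
  · -- intersections
    intro x hx
    have hSK : (P : Subgroup G) ⊓ K ≤ pCore p G := by
      obtain ⟨Q, hQ⟩ := Transfer.exists_sylow_subgroupOf_normal (P := P) K
      have hmap : (Q : Subgroup K).map K.subtype = (P : Subgroup G) ⊓ K := by
        rw [hQ, subgroupOf_map_subtype]
      have hsup := Sylow.normalizer_sup_eq_top Q
      rw [hmap] at hsup
      have hN : normalizer (((P : Subgroup G) ⊓ K : Subgroup G) : Set G) = ⊤ := by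
        by_contra hne
        refine hMc.1 (top_le_iff.1 (hsup ▸ sup_le (hle _ hne ?_) hKM))
        exact (le_inf le_normalizer ((normalizer_eq_top_iff.2 hK).symm ▸ le_top)).trans
          inf_normalizer_le_normalizer_inf
      exact Thompson.le_pCore (normalizer_eq_top_iff.1 hN) (P.isPGroup'.to_le inf_le_left)
    rintro s ⟨hs, hsx⟩
    have hne : (MulAut.conj (π x) • PS : Sylow p _) ≠ PS := fun h =>
      hx (hNcomap (show π x ∈ _ from Sylow.smul_eq_iff_mem_normalizer.1 h))
    have hs1 : π s ∈ (PS : Subgroup _) := mem_map_of_mem π hs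
    have hs2 : π s ∈ (MulAut.conj (π x) • PS : Sylow p _).toSubgroup := by
      obtain ⟨y, hy, hys⟩ := hsx
      refine ⟨π y, ?_, ?_⟩
      · -- a `p`-element normalizing a Sylow subgroup lies in it
        have hyp : IsPGroup p (zpowers (π y)) := by
          obtain ⟨k, hk⟩ := P.isPGroup' ⟨s, hs⟩
          have hk' : (π y) ^ p ^ k = 1 := by
            have h1 : y = x⁻¹ * s * x := by rw [← hys]; simp [mul_assoc]
            rw [← map_pow, h1, show x⁻¹ * s * x = MulAut.conj x⁻¹ s by simp, ← map_pow,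
              show s ^ p ^ k = 1 from congrArg Subtype.val hk, map_one, map_one]
          intro z
          obtain ⟨i, hi⟩ := mem_zpowers_iff.1 z.2
          refine ⟨k, Subtype.ext ?_⟩
          rw [SubmonoidClass.coe_pow, ← hi, ← zpow_natCast, ← zpow_mul, mul_comm, zpow_mul,
            zpow_natCast, hk', one_zpow]
          rfl
        have hzn : zpowers (π y) ≤ normalizer ((PS.toSubgroup : Set (Matrix.ProjectiveSpecialLinearGroup (Fin 2) F))) :=
          zpowers_le.2 (hMN (mem_map_of_mem π hy))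
        exact (PS.is_maximal' (hyp.to_sup_of_normal_right' PS.isPGroup' hzn) le_sup_right) ▸
          mem_sup_left (mem_zpowers _)
      · rw [← hys]
        simp
    have h1 : π s = 1 := mem_bot.1 ((psl_inf_eq_bot _ _ hne) ▸ (Subgroup.mem_inf.2 ⟨hs2, hs1⟩))
    exact hSK ⟨hs, hker ▸ h1⟩
  · intro N hN hPN
    by_contra hne
    haveI := hN
    obtain ⟨Q, hQ⟩ := Transfer.exists_sylow_subgroupOf_normal (P := P) N
    have hmap : (Q : Subgroup N).map N.subtype = (P : Subgroup G) := by
      rw [hQ, subgroupOf_map_subtype, inf_eq_left.2 hPN]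
    have hsup := Sylow.normalizer_sup_eq_top Q
    rw [hmap] at hsup
    refine hMc.1 (top_le_iff.1 (hsup ▸ sup_le ?_ (hle N hne hPN)))
    intro g hg
    apply hNcomap
    rw [mem_comap]
    exact le_normalizer_map π ⟨g, hg, rfl⟩

end Cfsg.Agent.LAE65.Push
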